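import Mathlib.RingTheory.WittVector.Teichmuller
import Mathlib.RingTheory.WittVector.Frobenius
import Mathlib.RingTheory.WittVector.Truncated

/-!
# Multiplication and Frobenius of Teichmüller lifts
-/

set_option autoImplicit false

open MvPolynomial

namespace Groth.Agent.WittFil.Teich

variable {p : ℕ} [hp : Fact p.Prime]

local notation "𝕎" => WittVector p

/-- two Witt vectors over a ring without `p`-torsion, with the same ghost components, are equal -/
theorem ghost_ext_int {σ : Type*} (x y : 𝕎 (MvPolynomial σ ℤ))
    (h : ∀ n, WittVector.ghostComponent n x = WittVector.ghostComponent n y) : x = y := by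
  refine WittVector.map_injective (MvPolynomial.map (Int.castRingHom ℚ))
    (MvPolynomial.map_injective _ Int.cast_injective) ?_
  haveI : Invertible (p : MvPolynomial σ ℚ) :=
    Invertible.copy (Invertible.map (MvPolynomial.C : ℚ →+* MvPolynomial σ ℚ) (p : ℚ)) _
      (map_natCast _ p).symm
  apply (WittVector.ghostMap.bijective_of_invertible p (MvPolynomial σ ℚ)).1
  funext n
  rw [WittVector.ghostMap_apply, WittVector.ghostMap_apply]
  have e : ∀ z : 𝕎 (MvPolynomial σ ℤ), WittVector.ghostComponent n
      (WittVector.map (MvPolynomial.map (Int.castRingHom ℚ)) z) =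
      MvPolynomial.map (Int.castRingHom ℚ) (WittVector.ghostComponent n z) := by
    intro z
    simp only [WittVector.ghostComponent_apply, map_aeval, WittVector.map_coeff]
    rw [aeval_eq_eval₂Hom]
    exact eval₂Hom_congr (RingHom.ext_int _ _) (funext fun i => by simp) rfl
  rw [e, e, h n]

variable {R : Type*} [CommRing R]

theorem frobenius_teichmuller (b : R) :
    WittVector.frobenius (WittVector.teichmuller p b) = WittVector.teichmuller p (b ^ p) := by
  let φ : MvPolynomial Unit ℤ →+* R := (MvPolynomial.eval₂Hom (Int.castRingHom R) fun _ => b)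
  have hb : φ (X ()) = b := by simp [φ]
  have key : WittVector.frobenius (WittVector.teichmuller p (X () : MvPolynomial Unit ℤ)) =
      WittVector.teichmuller p ((X () : MvPolynomial Unit ℤ) ^ p) := by
    refine ghost_ext_int _ _ fun n => ?_
    rw [WittVector.ghostComponent_frobenius, WittVector.ghostComponent_teichmuller,
      WittVector.ghostComponent_teichmuller, ← pow_mul, ← pow_succ']
  have hmap : ∀ (z : 𝕎 (MvPolynomial Unit ℤ)),
      WittVector.map φ (WittVector.frobenius z) = WittVector.frobenius (WittVector.map φ z) := by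
    intro z
    ext n
    simp only [WittVector.map_coeff, WittVector.coeff_frobenius, map_aeval]
    rw [aeval_eq_eval₂Hom]
    exact eval₂Hom_congr (RingHom.ext_int _ _) (funext fun i => by simp) rfl
  have := congrArg (WittVector.map φ) key
  rw [hmap, WittVector.map_teichmuller, WittVector.map_teichmuller, map_pow, hb] at this
  exact this

theorem iterate_frobenius_teichmuller (b : R) (k : ℕ) :
    (WittVector.frobenius)^[k] (WittVector.teichmuller p b) =
      WittVector.teichmuller p (b ^ p ^ k) := by
  induction k generalizing b with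
  | zero => simp
  | succ k ih => rw [Function.iterate_succ_apply', ih, frobenius_teichmuller, ← pow_mul, ← pow_succ]

theorem ghostComponent_eq_sum (n : ℕ) (x : 𝕎 R) :
    WittVector.ghostComponent n x =
      ∑ i ∈ Finset.range (n + 1), (p : R) ^ i * x.coeff i ^ p ^ (n - i) := by
  rw [WittVector.ghostComponent_apply, aeval_wittPolynomial]

/-- `([c] * x)ⱼ = c ^ (p ^ j) * xⱼ` -/
theorem teichmuller_mul_coeff (c : R) (x : 𝕎 R) (j : ℕ) :
    (WittVector.teichmuller p c * x).coeff j = c ^ p ^ j * x.coeff j := by
  let φ : MvPolynomial (Option ℕ) ℤ →+* R :=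
    MvPolynomial.eval₂Hom (Int.castRingHom R) fun o => o.elim c x.coeff
  let x₀ : 𝕎 (MvPolynomial (Option ℕ) ℤ) := WittVector.mk p fun n => X (some n)
  let y₀ : 𝕎 (MvPolynomial (Option ℕ) ℤ) :=
    WittVector.mk p fun n => (X none) ^ p ^ n * X (some n)
  have key : WittVector.teichmuller p (X none : MvPolynomial (Option ℕ) ℤ) * x₀ = y₀ := by
    refine ghost_ext_int _ _ fun n => ?_
    rw [map_mul, WittVector.ghostComponent_teichmuller, ghostComponent_eq_sum,
      ghostComponent_eq_sum, Finset.mul_sum]
    refine Finset.sum_congr rfl fun i hi => ?_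
    simp only [x₀, y₀, WittVector.coeff_mk]
    rw [mul_pow, ← pow_mul, ← pow_add, Nat.add_sub_cancel' (Finset.mem_range_succ_iff.1 hi)]
    ring
  have h := congrArg (fun z => (WittVector.map φ z).coeff j) key
  simp only [map_mul, WittVector.map_teichmuller] at h
  have h1 : WittVector.map φ x₀ = x := by ext n; simp [x₀, φ]
  have h2 : φ (X none) = c := by simp [φ]
  rw [h1, h2] at h
  rw [h]
  simp [y₀, φ]

/-- `([c] * a)ⱼ = c ^ (p ^ j) * aⱼ` for truncated Witt vectors -/
theorem truncate_teichmuller_mul_coeff {m : ℕ} (c : R) (a : TruncatedWittVector p m R) (j : Fin m) :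
    TruncatedWittVector.coeff j (WittVector.truncate m (WittVector.teichmuller p c) * a) =
      c ^ p ^ (j : ℕ) * TruncatedWittVector.coeff j a := by
  obtain ⟨x, rfl⟩ := WittVector.truncate_surjective p m R a
  rw [← map_mul, WittVector.coeff_truncate, WittVector.coeff_truncate, teichmuller_mul_coeff]

end Groth.Agent.WittFil.Teich
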