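import Groth.Prelude.Def_W4c6katofiltaWFil
import Groth.Agent.WittFil.Teich
import Mathlib.RingTheory.WittVector.Frobenius
import Mathlib.Algebra.CharP.Frobenius
import Mathlib.RingTheory.Localization.Away.Basic

/-!
# The filtered pieces of truncated Witt vectors and the twist `x ↦ W(Fr^(m-1))(x) * [c]`
-/

set_option autoImplicit false

namespace Groth.Agent.WittFil.Fil

open _root_.WittFil

variable {p : ℕ} [hp : Fact p.Prime] {A B : Type*} [CommRing A] [CommRing B] [Algebra A B]

local notation "𝕎" => WittVector p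

theorem mem_fil_truncate (m : ℕ) (c : B) (x : 𝕎 B) :
    WittVector.truncate m x ∈ fil p m (A := A) c ↔
      ∀ j, j < m → x.coeff j ^ p ^ (m - 1 - j) * c ∈ (algebraMap A B).range := by
  refine ⟨fun h j hj => ?_, fun h j => ?_⟩
  · have := h ⟨j, hj⟩
    rwa [WittVector.coeff_truncate] at this
  · rw [WittVector.coeff_truncate]
    exact h j j.2

/-- the truncations of vectors with coordinates in the image of `A` form a subring -/
theorem truncate_mem_range_iff (m : ℕ) (x : 𝕎 B) :
    WittVector.truncate m x ∈
        ((WittVector.truncate m).comp (WittVector.map (algebraMap A B) : 𝕎 A →+* 𝕎 B)).range ↔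
      ∀ j, j < m → x.coeff j ∈ (algebraMap A B).range := by
  classical
  constructor
  · rintro ⟨w, hw⟩ j hj
    refine ⟨w.coeff j, ?_⟩
    have := congrArg (TruncatedWittVector.coeff (⟨j, hj⟩ : Fin m)) hw
    rwa [RingHom.comp_apply, WittVector.coeff_truncate, WittVector.coeff_truncate,
      WittVector.map_coeff] at this
  · intro h
    choose g hg using h
    refine ⟨WittVector.mk p fun j => if hj : j < m then g j hj else 0, ?_⟩
    refine TruncatedWittVector.ext fun j => ?_
    rw [RingHom.comp_apply, WittVector.coeff_truncate, WittVector.coeff_truncate,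
      WittVector.map_coeff, WittVector.coeff_mk]
    rw [dif_pos j.2]
    exact hg j j.2

section Twist

variable [CharP B p]

/-- `W(Fr^(m-1))(x) * [c]` -/
noncomputable def twist (m : ℕ) (c : B) (x : 𝕎 B) : 𝕎 B :=
  letI : ExpChar B p := ExpChar.prime hp.out
  WittVector.map (iterateFrobenius B p (m - 1)) x * WittVector.teichmuller p c

theorem twist_coeff (m : ℕ) (c : B) (x : 𝕎 B) {j : ℕ} (hj : j < m) :
    (twist m c x).coeff j = (x.coeff j ^ p ^ (m - 1 - j) * c) ^ p ^ j := by
  letI : ExpChar B p := ExpChar.prime hp.out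
  rw [twist, mul_comm, Teich.teichmuller_mul_coeff, WittVector.map_coeff, iterateFrobenius_def,
    mul_pow, ← pow_mul, ← pow_add, show m - 1 - j + j = m - 1 by omega, mul_comm]

theorem twist_sub (m : ℕ) (c : B) (x y : 𝕎 B) :
    twist m c (x - y) = twist m c x - twist m c y := by
  simp only [twist, map_sub, sub_mul]

theorem twist_mul (m : ℕ) (c d : B) (x y : 𝕎 B) :
    twist m (c * d) (x * y) = twist m c x * twist m d y := by
  simp only [twist, map_mul]
  ring

theorem twist_integral_of_mem (m : ℕ) (c : B) (x : 𝕎 B)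
    (hx : WittVector.truncate m x ∈ fil p m (A := A) c) :
    WittVector.truncate m (twist m c x) ∈
      ((WittVector.truncate m).comp (WittVector.map (algebraMap A B) : 𝕎 A →+* 𝕎 B)).range := by
  rw [truncate_mem_range_iff]
  intro j hj
  rw [twist_coeff m c x hj]
  exact pow_mem ((mem_fil_truncate m c x).1 hx j hj) _

theorem mem_of_twist_integral
    (hroot : ∀ (z : B) (k : ℕ), 0 < k → z ^ k ∈ (algebraMap A B).range →
      z ∈ (algebraMap A B).range)
    (m : ℕ) (c : B) (x : 𝕎 B)
    (hx : WittVector.truncate m (twist m c x) ∈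
      ((WittVector.truncate m).comp (WittVector.map (algebraMap A B) : 𝕎 A →+* 𝕎 B)).range) :
    WittVector.truncate m x ∈ fil p m (A := A) c := by
  rw [truncate_mem_range_iff] at hx
  rw [mem_fil_truncate]
  intro j hj
  have := hx j hj
  rw [twist_coeff m c x hj] at this
  exact hroot _ _ (pow_pos hp.out.pos j) this

theorem sub_mem
    (hroot : ∀ (z : B) (k : ℕ), 0 < k → z ^ k ∈ (algebraMap A B).range →
      z ∈ (algebraMap A B).range)
    {m : ℕ} {c : B} {a b : TruncatedWittVector p m B} (ha : a ∈ fil p m (A := A) c)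
    (hb : b ∈ fil p m (A := A) c) : a - b ∈ fil p m (A := A) c := by
  obtain ⟨x, rfl⟩ := WittVector.truncate_surjective p m B a
  obtain ⟨y, rfl⟩ := WittVector.truncate_surjective p m B b
  rw [← map_sub]
  refine mem_of_twist_integral hroot m c _ ?_
  rw [twist_sub, map_sub]
  exact Subring.sub_mem _ (twist_integral_of_mem m c x ha) (twist_integral_of_mem m c y hb)

theorem mul_mem
    (hroot : ∀ (z : B) (k : ℕ), 0 < k → z ^ k ∈ (algebraMap A B).range →
      z ∈ (algebraMap A B).range)
    {m : ℕ} {c d : B} {a b : TruncatedWittVector p m B} (ha : a ∈ fil p m (A := A) c)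
    (hb : b ∈ fil p m (A := A) d) : a * b ∈ fil p m (A := A) (c * d) := by
  obtain ⟨x, rfl⟩ := WittVector.truncate_surjective p m B a
  obtain ⟨y, rfl⟩ := WittVector.truncate_surjective p m B b
  rw [← map_mul]
  refine mem_of_twist_integral hroot m _ _ ?_
  rw [twist_mul, map_mul]
  exact Subring.mul_mem _ (twist_integral_of_mem m c x ha) (twist_integral_of_mem m d y hb)

end Twist

section Primes

variable [IsDomain A] {r : ℕ} {x : Fin r → A}

theorem not_dvd_prod_pow (hx : ∀ i, Prime (x i)) (hxa : ∀ i j, Associated (x i) (x j) → i = j)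
    (i : Fin r) (s : Finset (Fin r)) (hi : i ∉ s) (e : Fin r → ℕ) :
    ¬ x i ∣ ∏ l ∈ s, x l ^ e l := by
  intro h
  obtain ⟨l, hl, hdvd⟩ := (hx i).exists_mem_finset_dvd h
  exact hi (hxa i l ((hx i).associated_of_dvd (hx l) ((hx i).dvd_of_dvd_pow hdvd)) ▸ hl)

theorem prod_dvd (hx : ∀ i, Prime (x i)) (hxa : ∀ i j, Associated (x i) (x j) → i = j) {a : A}
    (s : Finset (Fin r)) (h : ∀ i ∈ s, x i ∣ a) : ∏ i ∈ s, x i ∣ a := by
  classical
  induction s using Finset.induction_on with
  | empty => simp
  | @insert i s hi ih =>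
    obtain ⟨b, hb⟩ := ih fun l hl => h l (Finset.mem_insert_of_mem hl)
    have hib : x i ∣ (∏ l ∈ s, x l) * b := hb ▸ h i (Finset.mem_insert_self _ _)
    rcases (hx i).dvd_or_dvd hib with h' | h'
    · exact absurd (by simpa using h') (not_dvd_prod_pow hx hxa i s hi fun _ => 1)
    · rw [hb, Finset.prod_insert hi, mul_comm (x i)]
      exact mul_dvd_mul_left _ h'

theorem algebraMap_injective (hx : ∀ i, Prime (x i)) [IsLocalization.Away (∏ i, x i) B] :
    Function.Injective (algebraMap A B) := by
  refine IsLocalization.injective (M := Submonoid.powers (∏ i, x i)) B ?_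
  rw [Submonoid.powers_le]
  exact mem_nonZeroDivisors_of_ne_zero (Finset.prod_ne_zero_iff.2 fun i _ => (hx i).ne_zero)

theorem charP (hx : ∀ i, Prime (x i)) [IsLocalization.Away (∏ i, x i) B] [CharP A p] : CharP B p :=
  charP_of_injective_algebraMap (algebraMap_injective hx) p

theorem isUnit_algebraMap (hx : ∀ i, Prime (x i)) [IsLocalization.Away (∏ i, x i) B]
    (e : Fin r → ℕ) : IsUnit (algebraMap A B (∏ i, x i ^ e i)) := by
  have h := IsLocalization.Away.algebraMap_isUnit (∏ i, x i) (S := B)
  rw [map_prod, IsUnit.prod_univ_iff] at h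
  rw [map_prod, IsUnit.prod_univ_iff]
  intro i
  rw [map_pow]
  exact (h i).pow _

/-- root closedness with a small excess along the primes -/
theorem root (hx : ∀ i, Prime (x i)) (hxa : ∀ i j, Associated (x i) (x j) → i = j)
    [IsLocalization.Away (∏ i, x i) B] (z : B) (k : ℕ) (e : Fin r → ℕ)
    (he : ∀ i, e i < k) (hz : z ^ k * algebraMap A B (∏ i, x i ^ e i) ∈ (algebraMap A B).range)
    (hk : 0 < k) : z ∈ (algebraMap A B).range := by
  classical
  have step : ∀ (T : ℕ) (N : Fin r → ℕ) (a : A), ∑ i, N i = T →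
      z * algebraMap A B (∏ i, x i ^ N i) = algebraMap A B a → z ∈ (algebraMap A B).range := by
    intro T
    induction T with
    | zero =>
      intro N a hN h
      have h0 : ∀ i, N i = 0 := fun i => (Finset.sum_eq_zero_iff.1 hN) i (Finset.mem_univ i)
      exact ⟨a, by simpa [h0] using h.symm⟩
    | succ T ih =>
      intro N a hN h
      obtain ⟨i, hi⟩ : ∃ i, N i ≠ 0 := by
        by_contra hcon
        simp only [not_exists, not_not] at hcon
        simp [hcon] at hN
      obtain ⟨t, ht⟩ := hz
      have heq : a ^ k * ∏ l, x l ^ e l = t * (∏ l, x l ^ N l) ^ k := by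
        apply algebraMap_injective (B := B) hx
        rw [map_mul, map_mul, map_pow, map_pow, ← h, ht]
        ring
      have hdiv : x i ^ (e i + 1) ∣ a ^ k * ∏ l, x l ^ e l := by
        rw [heq]
        refine Dvd.dvd.mul_left ?_ _
        refine (pow_dvd_pow (x i) (?_ : e i + 1 ≤ N i * k)).trans ?_
        · calc e i + 1 ≤ k := he i
            _ ≤ N i * k := Nat.le_mul_of_pos_left k (by omega)
        · rw [pow_mul]
          exact pow_dvd_pow_of_dvd (Finset.dvd_prod_of_mem (fun l => x l ^ N l) (Finset.mem_univ i)) k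
      rw [← Finset.mul_prod_erase Finset.univ (fun l => x l ^ e l) (Finset.mem_univ i),
        ← mul_assoc, mul_comm (a ^ k), mul_assoc, pow_succ] at hdiv
      have hdiv' := (mul_dvd_mul_iff_left (pow_ne_zero _ (hx i).ne_zero)).1 hdiv
      have hia : x i ∣ a := by
        rcases (hx i).dvd_or_dvd hdiv' with h' | h'
        · exact (hx i).dvd_of_dvd_pow h'
        · exact absurd h' (not_dvd_prod_pow hx hxa i _ (by simp) e)
      obtain ⟨a', rfl⟩ := hia
      refine ih (Function.update N i (N i - 1)) a' ?_ ?_
      · rw [Finset.sum_update_of_mem (Finset.mem_univ i), ← Finset.erase_eq]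
        have := Finset.add_sum_erase Finset.univ N (Finset.mem_univ i)
        omega
      · have hupd : ∏ l, x l ^ N l = x i * ∏ l, x l ^ (Function.update N i (N i - 1)) l := by
          rw [← Finset.mul_prod_erase Finset.univ (fun l => x l ^ N l) (Finset.mem_univ i),
            ← Finset.mul_prod_erase Finset.univ _ (Finset.mem_univ i), Function.update_self,
            ← mul_assoc, ← pow_succ', Nat.sub_add_cancel (Nat.pos_of_ne_zero hi)]
          refine congrArg _ (Finset.prod_congr rfl fun l hl => ?_)
          rw [Function.update_of_ne (Finset.ne_of_mem_erase hl)]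
        have hu : IsUnit (algebraMap A B (x i)) := by
          have := isUnit_algebraMap (B := B) hx (Pi.single i 1)
          rwa [Finset.prod_eq_single i (fun l _ hl => by simp [Pi.single_eq_of_ne hl])
            (by simp), Pi.single_eq_same, pow_one] at this
        rw [hupd, map_mul, map_mul, mul_left_comm] at h
        exact hu.mul_left_cancel h
  obtain ⟨n, a, ha⟩ := IsLocalization.Away.surj (∏ i, x i) z
  refine step _ (fun _ => n) a rfl ?_
  rw [Finset.prod_pow, map_pow]
  exact ha

theorem root_zero (hx : ∀ i, Prime (x i)) (hxa : ∀ i j, Associated (x i) (x j) → i = j)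
    [IsLocalization.Away (∏ i, x i) B] (z : B) (k : ℕ) (hk : 0 < k)
    (hz : z ^ k ∈ (algebraMap A B).range) : z ∈ (algebraMap A B).range :=
  root hx hxa z k 0 (fun _ => hk) (by simpa using hz) hk

theorem zmon_add (u : Fin r → Bˣ) (n n' : Fin r → ℤ) :
    zmon u (n + n') = zmon u n * zmon u n' := by
  rw [zmon, zmon, zmon, ← Units.val_mul, ← Finset.prod_mul_distrib]
  simp only [Pi.add_apply, zpow_add]

theorem zmon_natMul (u : Fin r → Bˣ) (n : Fin r → ℤ) (k : ℕ) :
    zmon u (fun i => (k : ℤ) * n i) = zmon u n ^ k := by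
  rw [zmon, zmon, ← Units.val_pow_eq_pow_val, ← Finset.prod_pow]
  refine congrArg Units.val (Finset.prod_congr rfl fun i _ => ?_)
  rw [← zpow_natCast, ← zpow_mul, mul_comm]

theorem zmon_natCast (u : Fin r → Bˣ) (hu : ∀ i, (u i : B) = algebraMap A B (x i))
    (e : Fin r → ℕ) : zmon u (fun i => (e i : ℤ)) = algebraMap A B (∏ i, x i ^ e i) := by
  rw [zmon, Units.coe_prod, map_prod]
  refine Finset.prod_congr rfl fun i _ => ?_
  rw [zpow_natCast, Units.val_pow_eq_pow_val, hu, map_pow]

end Primes

section OnePrime

variable [IsDomain A] {x : A}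

theorem away_prod_one (x : A) [IsLocalization.Away x B] :
    IsLocalization.Away (∏ i, (fun _ : Fin 1 => x) i) B := by
  rw [Fin.prod_univ_one]; infer_instance

theorem algebraMap_injective_one (hx : Prime x) [IsLocalization.Away x B] :
    Function.Injective (algebraMap A B) := by
  haveI := away_prod_one (B := B) x
  exact algebraMap_injective (x := fun _ : Fin 1 => x) fun _ => hx

/-- root closedness with a small excess along one prime -/
theorem root_one (hx : Prime x) [IsLocalization.Away x B] (z : B) (k e : ℕ) (he : e < k)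
    (hz : z ^ k * algebraMap A B (x ^ e) ∈ (algebraMap A B).range) :
    z ∈ (algebraMap A B).range := by
  haveI := away_prod_one (B := B) x
  refine root (x := fun _ : Fin 1 => x) (fun _ => hx) (fun i j _ => Subsingleton.elim i j) z k
    (fun _ => e) (fun _ => he) ?_ (by omega)
  simpa using hz

end OnePrime

end Groth.Agent.WittFil.Fil
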